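import Cfsg.Prelude.Def_HallClasses
import Cfsg.Agent.Eq.Def_HallClasses
import Mathlib.GroupTheory.Sylow

/-!
When all overgroups of Sylow subgroups are pronormal: behaviour in group extensions.
-/

set_option autoImplicit false

namespace CfsgLib.PronormalExt

universe u

variable {G : Type u} [Group G]

/-- The conjugate `g H g⁻¹`. -/
abbrev cj (g : G) (H : Subgroup G) : Subgroup G := H.map (MulAut.conj g).toMonoidHom

theorem mem_cj {g : G} {H : Subgroup G} {y : G} : y ∈ cj g H ↔ g⁻¹ * y * g ∈ H := by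
  constructor
  · rintro ⟨h, hh, rfl⟩
    show g⁻¹ * (g * h * g⁻¹) * g ∈ H
    simpa [mul_assoc] using hh
  · intro h
    exact ⟨_, h, by simp [mul_assoc]⟩

theorem cj_cj (g h : G) (H : Subgroup G) : cj g (cj h H) = cj (g * h) H := by
  ext y
  simp only [mem_cj, mul_inv_rev, mul_assoc]

theorem cj_one (H : Subgroup G) : cj 1 H = H := by
  ext y
  simp [mem_cj]

theorem cj_mono {g : G} {H K : Subgroup G} (h : H ≤ K) : cj g H ≤ cj g K := Subgroup.map_mono h

theorem cj_eq_iff {g : G} {H : Subgroup G} :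
    cj g H = H ↔ g ∈ Subgroup.normalizer (H : Set G) := by
  rw [Subgroup.mem_normalizer_iff]
  constructor
  · intro h y
    conv_rhs => rw [← h, mem_cj]
    simp [mul_assoc]
  · intro h
    ext y
    rw [mem_cj, h]
    simp [mul_assoc]

theorem cj_of_mem {g : G} {H : Subgroup G} (h : g ∈ H) : cj g H = H :=
  cj_eq_iff.2 (Subgroup.le_normalizer h)

theorem cj_sup (g : G) (H K : Subgroup G) : cj g (H ⊔ K) = cj g H ⊔ cj g K := Subgroup.map_sup _ _ _

theorem cj_of_normal {A : Subgroup G} [hA : A.Normal] (g : G) : cj g A = A :=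
  cj_eq_iff.2 (by rw [Subgroup.normalizer_eq_top_iff.2 hA]; trivial)

theorem map_cj {M : Type u} [Group M] (f : G →* M) (g : G) (H : Subgroup G) :
    (cj g H).map f = cj (f g) (H.map f) := by
  unfold cj
  rw [Subgroup.map_map, Subgroup.map_map]
  congr 1
  ext x
  simp

theorem isPronormal_iff (H : Subgroup G) :
    Cfsg.IsPronormal H ↔ ∀ g : G, ∃ x ∈ H ⊔ cj g H, cj g H = cj x H := Iff.rfl

/-- Pronormality is preserved by conjugation. -/
theorem isPronormal_cj {H : Subgroup G} (h : Cfsg.IsPronormal H) (a : G) :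
    Cfsg.IsPronormal (cj a H) := by
  rw [isPronormal_iff] at h ⊢
  intro g
  obtain ⟨x, hx, hgx⟩ := h (a⁻¹ * g * a)
  refine ⟨a * x * a⁻¹, ?_, ?_⟩
  · have : a * x * a⁻¹ ∈ cj a (H ⊔ cj (a⁻¹ * g * a) H) := ⟨x, hx, by simp⟩
    rwa [cj_sup, cj_cj, show a * (a⁻¹ * g * a) = g * a by group, ← cj_cj] at this
  · rw [cj_cj, cj_cj, show g * a = a * (a⁻¹ * g * a) by group, ← cj_cj, hgx, cj_cj]
    congr 1
    group

/-- Images of pronormal subgroups under surjections are pronormal. -/
theorem isPronormal_map {M : Type u} [Group M] {f : G →* M} (hf : Function.Surjective f)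
    {H : Subgroup G} (h : Cfsg.IsPronormal H) : Cfsg.IsPronormal (H.map f) := by
  rw [isPronormal_iff] at h ⊢
  intro g
  obtain ⟨g, rfl⟩ := hf g
  obtain ⟨x, hx, hgx⟩ := h g
  refine ⟨f x, ?_, ?_⟩
  · rw [← map_cj, ← Subgroup.map_sup]
    exact Subgroup.mem_map_of_mem f hx
  · rw [← map_cj, hgx, map_cj]

/-- A subgroup containing the kernel is pronormal when its image is. -/
theorem isPronormal_of_map {M : Type u} [Group M] (f : G →* M) {H : Subgroup G}
    (hker : f.ker ≤ H) (h : Cfsg.IsPronormal (H.map f)) : Cfsg.IsPronormal H := by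
  rw [isPronormal_iff] at h ⊢
  intro g
  obtain ⟨y, hy, hgy⟩ := h (f g)
  rw [← map_cj, ← Subgroup.map_sup] at hy
  obtain ⟨x, hx, rfl⟩ := hy
  have hk : ∀ u : G, f.ker ≤ cj u H := fun u => by
    rw [← cj_of_normal (A := f.ker) u]
    exact cj_mono hker
  refine ⟨x, hx, ?_⟩
  have h1 : (cj g H).map f = (cj x H).map f := by rw [map_cj, map_cj, hgy]
  have h2 := congrArg (Subgroup.comap f) h1
  rwa [Subgroup.comap_map_eq, Subgroup.comap_map_eq, sup_eq_left.2 (hk g),
    sup_eq_left.2 (hk x)] at h2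

/-- Reading pronormality inside a subgroup. -/
theorem exists_of_subgroupOf {N H : Subgroup G} (hH : H ≤ N)
    (h : Cfsg.IsPronormal (H.subgroupOf N)) {a : G} (ha : a ∈ N) :
    ∃ x ∈ H ⊔ cj a H, x ∈ N ∧ cj a H = cj x H := by
  rw [isPronormal_iff] at h
  obtain ⟨x, hx, hax⟩ := h ⟨a, ha⟩
  have e : (H.subgroupOf N).map N.subtype = H := Subgroup.map_subgroupOf_eq_of_le hH
  refine ⟨x, ?_, x.2, ?_⟩
  · have := Subgroup.mem_map_of_mem N.subtype hx
    rwa [Subgroup.map_sup, map_cj, e] at this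
  · have := congrArg (Subgroup.map N.subtype) hax
    rwa [map_cj, map_cj, e] at this

/-- Pronormality passes to intermediate subgroups. -/
theorem isPronormal_subgroupOf {N : Subgroup G} {K : Subgroup N}
    (h : Cfsg.IsPronormal (K.map N.subtype)) : Cfsg.IsPronormal K := by
  rw [isPronormal_iff] at h ⊢
  intro g
  obtain ⟨x, hx, hgx⟩ := h g
  have hg : cj (g : G) (K.map N.subtype) = (cj g K).map N.subtype := (map_cj N.subtype g K).symm
  rw [hg, ← Subgroup.map_sup] at hx
  obtain ⟨y, hy, rfl⟩ := hx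
  refine ⟨y, hy, Subgroup.map_injective N.subtype_injective ?_⟩
  rw [map_cj, map_cj]
  exact hgx

variable [Finite G] {p : ℕ} [Fact p.Prime]

/-- The intersection of a Sylow subgroup with a normal subgroup is a Sylow subgroup of it. -/
theorem exists_sylow_inf (A : Subgroup G) [A.Normal] (P : Sylow p G) :
    ∃ Q : Sylow p A, (Q : Subgroup A).map A.subtype = (P : Subgroup G) ⊓ A := by
  have hpg : IsPGroup p ((P : Subgroup G).subgroupOf A) :=
    P.isPGroup'.comap_of_injective A.subtype A.subtype_injective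
  obtain ⟨Q, hQ⟩ := hpg.exists_le_sylow
  refine ⟨Q, ?_⟩
  obtain ⟨P', hP'⟩ := (Q.isPGroup'.map A.subtype).exists_le_sylow
  obtain ⟨g, hg⟩ := MulAction.exists_smul_eq G P P'
  have hP'' : (P' : Subgroup G) = cj g (P : Subgroup G) := by
    rw [← hg]; rfl
  have h1 : (Q : Subgroup A).map A.subtype ≤ cj g ((P : Subgroup G) ⊓ A) := by
    intro y hy
    obtain ⟨z, hz, rfl⟩ := hy
    have := hP' (Subgroup.mem_map_of_mem A.subtype hz)
    rw [hP'', mem_cj] at this
    exact mem_cj.2 ⟨this, (inferInstance : A.Normal).conj_mem' _ z.2 g⟩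
  have h2 : (P : Subgroup G) ⊓ A ≤ (Q : Subgroup A).map A.subtype := by
    intro y hy
    exact ⟨⟨y, hy.2⟩, hQ hy.1, rfl⟩
  refine (Subgroup.eq_of_le_of_card_ge h2 ?_).symm
  refine (Subgroup.card_le_of_le h1).trans (le_of_eq ?_)
  exact Subgroup.card_map_of_injective (MulAut.conj g).injective

/-- Frattini step: two copies of the Sylow subgroup inside an intermediate subgroup. -/
theorem exists_conj_eq (A : Subgroup G) (T₀ : Sylow p A) {B : Subgroup G} (hBA : B ≤ A)
    (hTB : (T₀ : Subgroup A).map A.subtype ≤ B) {g : G}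
    (hg : cj g ((T₀ : Subgroup A).map A.subtype) ≤ B) :
    ∃ b ∈ B, cj b ((T₀ : Subgroup A).map A.subtype) = cj g ((T₀ : Subgroup A).map A.subtype) := by
  set T := (T₀ : Subgroup A).map A.subtype with hT
  set B' : Subgroup A := B.subgroupOf A
  have hle : (T₀ : Subgroup A) ≤ B' := fun z hz => hTB (Subgroup.mem_map_of_mem A.subtype hz)
  have hpg : IsPGroup p (((cj g T).subgroupOf A).subgroupOf B') :=
    (((T₀.isPGroup'.map A.subtype).map _).comap_of_injective A.subtype
      A.subtype_injective).comap_of_injective B'.subtype B'.subtype_injective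
  obtain ⟨S, hS⟩ := hpg.exists_le_sylow
  obtain ⟨b, hb⟩ := MulAction.exists_smul_eq B' (T₀.subtype hle) S
  refine ⟨((b : A) : G), b.2, (Subgroup.eq_of_le_of_card_ge ?_ ?_).symm⟩
  · intro z hz
    let zB : B' := ⟨⟨z, hBA (hg hz)⟩, hg hz⟩
    have h' : zB ∈ (S : Subgroup B') := hS (show (z : G) ∈ cj g T from hz)
    rw [← hb] at h'
    obtain ⟨w, hw, hwz⟩ := (h' : zB ∈ cj b ((T₀.subtype hle : Sylow p B') : Subgroup B'))
    exact ⟨((w : A) : G), Subgroup.mem_map_of_mem A.subtype hw,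
      congrArg (fun t : B' => ((t : A) : G)) hwz⟩
  · exact le_of_eq
      ((Subgroup.card_map_of_injective (MulAut.conj ((b : A) : G)).injective).trans
        (Subgroup.card_map_of_injective (MulAut.conj g).injective).symm)

/-- An overgroup of a self-normalising Sylow subgroup is pronormal and self-normalising. -/
theorem selfNormalizing_overgroup (P : Sylow p G)
    (hP : Subgroup.normalizer ((P : Subgroup G) : Set G) = P) (K : Subgroup G)
    (hK : (P : Subgroup G) ≤ K) :
    Cfsg.IsPronormal K ∧ Subgroup.normalizer (K : Set G) ≤ K := by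
  have key : ∀ g : G, ∃ x ∈ K ⊔ cj g K, x⁻¹ * g ∈ K := by
    intro g
    set J := K ⊔ cj g K
    have hP1 : (P : Subgroup G) ≤ J := hK.trans le_sup_left
    have hP2 : ((g • P : Sylow p G) : Subgroup G) ≤ J := (cj_mono hK).trans le_sup_right
    obtain ⟨x, hx⟩ := MulAction.exists_smul_eq J (P.subtype hP1) ((g • P).subtype hP2)
    refine ⟨x, x.2, hK ?_⟩
    rw [Sylow.smul_subtype] at hx
    have h1 : ((x : G) • P : Sylow p G) = g • P := by
      have := Sylow.subtype_injective hx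
      exact this
    rw [← hP]
    refine Sylow.smul_eq_iff_mem_normalizer.1 ?_
    rw [mul_smul, ← h1, inv_smul_smul]
  refine ⟨fun g => ?_, fun g hg => ?_⟩
  · obtain ⟨x, hx, hxg⟩ := key g
    refine ⟨x, hx, ?_⟩
    show cj g K = cj x K
    rw [show g = x * (x⁻¹ * g) by group, ← cj_cj, cj_of_mem hxg]
  · obtain ⟨x, hx, hxg⟩ := key g
    rw [cj_eq_iff.2 hg, sup_idem] at hx
    simpa using K.mul_mem hx hxg

/-- The extension criterion. -/
theorem criterion (A : Subgroup G) [A.Normal]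
    (hA : ∀ K : Subgroup A, (∃ P : Sylow p A, (P : Subgroup A) ≤ K) → Cfsg.IsPronormal K)
    (hQ : ∀ K : Subgroup (G ⧸ A), (∃ P : Sylow p (G ⧸ A), (P : Subgroup (G ⧸ A)) ≤ K) →
      Cfsg.IsPronormal K)
    (T : Subgroup G) (hT : ∃ P : Sylow p A, (P : Subgroup A).map A.subtype = T)
    [(T.subgroupOf (Subgroup.normalizer (T : Set G))).Normal]
    (h1 : ∀ K : Subgroup (↥(Subgroup.normalizer (T : Set G)) ⧸
        T.subgroupOf (Subgroup.normalizer (T : Set G))),
      (∃ P : Sylow p (↥(Subgroup.normalizer (T : Set G)) ⧸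
          T.subgroupOf (Subgroup.normalizer (T : Set G))),
        (P : Subgroup (↥(Subgroup.normalizer (T : Set G)) ⧸
          T.subgroupOf (Subgroup.normalizer (T : Set G)))) ≤ K) → Cfsg.IsPronormal K)
    (h2 : ∀ K : Subgroup G, (∃ P : Sylow p G, (P : Subgroup G) ≤ K) →
      (Subgroup.normalizer (K : Set G)).map (QuotientGroup.mk' A) =
        Subgroup.normalizer ((K.map (QuotientGroup.mk' A) : Subgroup (G ⧸ A)) : Set (G ⧸ A)))
    (K : Subgroup G) (hK : ∃ P : Sylow p G, (P : Subgroup G) ≤ K) : Cfsg.IsPronormal K := by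
  set q := QuotientGroup.mk' A with hq
  obtain ⟨T₀, rfl⟩ := hT
  set T : Subgroup G := (T₀ : Subgroup A).map A.subtype with hTdef
  -- the reduced situation
  suffices main : ∀ H : Subgroup G, ∀ P : Sylow p G, (P : Subgroup G) ≤ H →
      (P : Subgroup G) ⊓ A = T → Cfsg.IsPronormal H by
    obtain ⟨P, hP⟩ := hK
    obtain ⟨Q, hQ'⟩ := exists_sylow_inf A P
    obtain ⟨a, ha⟩ := MulAction.exists_smul_eq A Q T₀
    have e : cj (a : G) ((P : Subgroup G) ⊓ A) = T := by
      rw [← hQ', hTdef, ← ha]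
      exact (map_cj A.subtype a (Q : Subgroup A)).symm
    have h := main (cj (a : G) K) ((a : G) • P) (cj_mono hP) (by
      rw [← e]
      ext y
      show y ∈ cj (a : G) (P : Subgroup G) ∧ y ∈ A ↔ _
      simp only [mem_cj, Subgroup.mem_inf]
      refine and_congr_right fun _ => ⟨fun hy => (inferInstance : A.Normal).conj_mem' _ hy _,
        fun hy => ?_⟩
      have := (inferInstance : A.Normal).conj_mem _ hy (a : G)
      simpa [mul_assoc] using this)
    have := isPronormal_cj h (a : G)⁻¹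
    rwa [cj_cj, inv_mul_cancel, cj_one] at this
  intro H P hPH hPT
  -- facts about `T`
  have hTA : T ≤ A := hPT ▸ inf_le_right
  have hTP : T ≤ (P : Subgroup G) := hPT ▸ inf_le_left
  set N := Subgroup.normalizer (T : Set G) with hN
  have hPN : (P : Subgroup G) ≤ N := by
    intro y hy
    rw [hN, ← cj_eq_iff, ← hPT]
    ext z
    simp only [mem_cj, Subgroup.mem_inf]
    refine and_congr ⟨fun h => ?_, fun h => ?_⟩ ⟨fun h => ?_, fun h => ?_⟩
    · have := P.mul_mem (P.mul_mem hy h) (P.inv_mem hy)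
      simpa [mul_assoc] using this
    · exact P.mul_mem (P.mul_mem (P.inv_mem hy) h) hy
    · have := (inferInstance : A.Normal).conj_mem _ h y
      simpa [mul_assoc] using this
    · exact (inferInstance : A.Normal).conj_mem' _ h y
  rw [isPronormal_iff]
  intro g
  -- step one: work modulo `A`
  have hqH : Cfsg.IsPronormal (H.map q) :=
    hQ _ ⟨P.mapSurjective (QuotientGroup.mk'_surjective A), Subgroup.map_mono hPH⟩
  rw [isPronormal_iff] at hqH
  obtain ⟨yb, hyb, hgy⟩ := hqH (q g)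
  rw [← map_cj, ← Subgroup.map_sup] at hyb
  obtain ⟨y, hy, rfl⟩ := hyb
  have hn : q (y⁻¹ * g) ∈ Subgroup.normalizer ((H.map q : Subgroup (G ⧸ A)) : Set (G ⧸ A)) := by
    rw [← cj_eq_iff, map_mul, ← cj_cj, hgy, cj_cj, ← map_mul, inv_mul_cancel, map_one, cj_one]
  rw [← h2 H ⟨P, hPH⟩] at hn
  obtain ⟨n, hnH, hn'⟩ := hn
  obtain ⟨a, haA, hya⟩ : ∃ a ∈ A, y⁻¹ * g = a * n := by
    refine ⟨y⁻¹ * g * n⁻¹, ?_, by group⟩
    rw [← QuotientGroup.eq_one_iff]
    show q (y⁻¹ * g * n⁻¹) = 1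
    rw [map_mul, map_inv q n, hn', mul_inv_cancel]
  have hga : cj g H = cj (y * a) H := by
    rw [show g = y * a * n by rw [mul_assoc, ← hya]; group, ← cj_cj, cj_eq_iff.2 hnH]
  suffices key : ∃ x ∈ H ⊔ cj a H, cj a H = cj x H by
    obtain ⟨x, hx, hax⟩ := key
    refine ⟨y * x, Subgroup.mul_mem _ hy ?_, by rw [hga, ← cj_cj, hax, cj_cj]⟩
    have hle : H ⊔ cj a H ≤ H ⊔ cj g H := by
      refine sup_le le_sup_left fun z hz => ?_
      have h' : y * z * y⁻¹ ∈ cj g H := by
        rw [hga, ← cj_cj]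
        exact ⟨z, hz, by simp⟩
      have := Subgroup.mul_mem _ (Subgroup.mul_mem _ (Subgroup.inv_mem _ hy)
        (Subgroup.mem_sup_right (S := H) h')) hy
      simpa [mul_assoc] using this
    exact hle hx
  clear hga hya hnH hn' hy hgy y g n
  -- step two: work inside `A`
  set B : Subgroup G := H ⊓ A with hB
  have hTB : T ≤ B := le_inf (hTP.trans hPH) hTA
  have hBsyl : (T₀ : Subgroup A) ≤ B.subgroupOf A := fun z hz =>
    hTB (Subgroup.mem_map_of_mem A.subtype hz)
  obtain ⟨x₁, hx₁, hx₁A, hax₁⟩ := exists_of_subgroupOf (inf_le_right : B ≤ A)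
    (hA _ ⟨T₀, hBsyl⟩) haA
  have hx₁J : x₁ ∈ H ⊔ cj a H := sup_le_sup inf_le_left (cj_mono inf_le_left) hx₁
  set a₁ := x₁⁻¹ * a with ha₁
  have ha₁A : a₁ ∈ A := A.mul_mem (A.inv_mem hx₁A) haA
  have ha₁B : cj a₁ B = B := by
    rw [ha₁, ← cj_cj, hax₁, cj_cj, inv_mul_cancel, cj_one]
  -- step three: move into `N(T)` by the Frattini argument
  obtain ⟨b, hb, hbT⟩ : ∃ b ∈ B, cj b T = cj a₁ T :=
    exists_conj_eq A T₀ inf_le_right hTB ((cj_mono hTB).trans ha₁B.le)
  set c := b⁻¹ * a₁ with hc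
  have hcN : c ∈ N := by
    rw [hN, ← cj_eq_iff, hc, ← cj_cj, ← hbT, cj_cj, inv_mul_cancel, cj_one]
  have hcB : cj c B = B := by
    rw [hc, ← cj_cj, ha₁B, cj_of_mem (B.inv_mem hb)]
  -- step four: pronormality in `N(T)`
  set H₀ : Subgroup G := H ⊓ N with hH₀
  have hH₀pro : Cfsg.IsPronormal (H₀.subgroupOf N) := by
    refine isPronormal_of_map (QuotientGroup.mk' (T.subgroupOf N)) ?_ (h1 _ ⟨(P.subtype hPN).mapSurjective
      (QuotientGroup.mk'_surjective _), Subgroup.map_mono ?_⟩)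
    · rw [QuotientGroup.ker_mk']
      intro z hz
      exact ⟨hPH (hTP hz), z.2⟩
    · intro z hz
      exact ⟨hPH hz, z.2⟩
  obtain ⟨x, hx, -, hcx⟩ := exists_of_subgroupOf (inf_le_right : H₀ ≤ N) hH₀pro hcN
  have hHeq : H = B ⊔ H₀ := by
    refine le_antisymm (fun h hh => ?_) (sup_le inf_le_left inf_le_left)
    have hhB : cj h B = B := by
      ext z
      simp only [mem_cj, hB, Subgroup.mem_inf]
      refine and_congr ⟨fun h' => ?_, fun h' => ?_⟩ ⟨fun h' => ?_, fun h' => ?_⟩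
      · have := H.mul_mem (H.mul_mem hh h') (H.inv_mem hh)
        simpa [mul_assoc] using this
      · exact H.mul_mem (H.mul_mem (H.inv_mem hh) h') hh
      · have := (inferInstance : A.Normal).conj_mem _ h' h
        simpa [mul_assoc] using this
      · exact (inferInstance : A.Normal).conj_mem' _ h' h
    obtain ⟨b', hb', hb'T⟩ : ∃ b' ∈ B, cj b' T = cj h T :=
      exists_conj_eq A T₀ inf_le_right hTB ((cj_mono hTB).trans hhB.le)
    have hmem : b'⁻¹ * h ∈ H₀ := by
      refine ⟨H.mul_mem (H.inv_mem hb'.1) hh, ?_⟩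
      show b'⁻¹ * h ∈ N
      rw [hN, ← cj_eq_iff, ← cj_cj, ← hb'T, cj_cj, inv_mul_cancel, cj_one]
    rw [show h = b' * (b'⁻¹ * h) by group]
    exact Subgroup.mul_mem_sup hb' hmem
  have hxB : cj x B = B := by
    have hH₀B : ∀ z ∈ H₀, cj z B = B := by
      intro z hz
      ext w
      simp only [mem_cj, hB, Subgroup.mem_inf]
      refine and_congr ⟨fun h' => ?_, fun h' => ?_⟩ ⟨fun h' => ?_, fun h' => ?_⟩
      · have := H.mul_mem (H.mul_mem hz.1 h') (H.inv_mem hz.1)
        simpa [mul_assoc] using this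
      · exact H.mul_mem (H.mul_mem (H.inv_mem hz.1) h') hz.1
      · have := (inferInstance : A.Normal).conj_mem _ h' z
        simpa [mul_assoc] using this
      · exact (inferInstance : A.Normal).conj_mem' _ h' z
    rw [cj_eq_iff]
    have hle : H₀ ⊔ cj c H₀ ≤ Subgroup.normalizer (B : Set G) := by
      refine sup_le (fun z hz => cj_eq_iff.1 (hH₀B z hz)) ?_
      rintro _ ⟨z, hz, rfl⟩
      exact Subgroup.mul_mem _ (Subgroup.mul_mem _ (cj_eq_iff.1 hcB) (cj_eq_iff.1 (hH₀B z hz)))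
        (Subgroup.inv_mem _ (cj_eq_iff.1 hcB))
    exact hle hx
  have hcH : cj c H = cj x H := by
    rw [hHeq, cj_sup, cj_sup, hcB, hxB, hcx]
  have haeq : a = x₁ * b * c := by rw [hc, ha₁]; group
  -- assemble
  have hxJ : x ∈ H ⊔ cj a H := by
    suffices hle : H₀ ⊔ cj c H₀ ≤ H ⊔ cj a H from hle hx
    refine sup_le ((inf_le_left : H₀ ≤ H).trans le_sup_left) fun z hz => ?_
    have hz' : (x₁ * b) * z * (x₁ * b)⁻¹ ∈ cj a H := by
      rw [haeq, ← cj_cj]
      exact ⟨z, cj_mono (inf_le_left : H₀ ≤ H) hz, by simp [mul_assoc]⟩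
    have hbJ : x₁ * b ∈ H ⊔ cj a H := Subgroup.mul_mem _ hx₁J (Subgroup.mem_sup_left hb.1)
    have := Subgroup.mul_mem _ (Subgroup.mul_mem _ (Subgroup.inv_mem _ hbJ)
      (Subgroup.mem_sup_right (S := H) hz')) hbJ
    simpa [mul_assoc] using this
  refine ⟨x₁ * b * x, Subgroup.mul_mem _ (Subgroup.mul_mem _ hx₁J
    (Subgroup.mem_sup_left hb.1)) hxJ, ?_⟩
  rw [haeq, ← cj_cj, hcH, cj_cj]

/-- The necessary conditions. -/
theorem necessary (A : Subgroup G) [A.Normal] (T : Subgroup G)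
    (hT : ∃ P : Sylow p A, (P : Subgroup A).map A.subtype = T)
    [(T.subgroupOf (Subgroup.normalizer (T : Set G))).Normal]
    (h : ∀ K : Subgroup G, (∃ P : Sylow p G, (P : Subgroup G) ≤ K) → Cfsg.IsPronormal K) :
    (∀ K : Subgroup (↥(Subgroup.normalizer (T : Set G)) ⧸
        T.subgroupOf (Subgroup.normalizer (T : Set G))),
      (∃ P : Sylow p (↥(Subgroup.normalizer (T : Set G)) ⧸
          T.subgroupOf (Subgroup.normalizer (T : Set G))),
        (P : Subgroup (↥(Subgroup.normalizer (T : Set G)) ⧸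
          T.subgroupOf (Subgroup.normalizer (T : Set G)))) ≤ K) → Cfsg.IsPronormal K) ∧
    ∀ K : Subgroup G, (∃ P : Sylow p G, (P : Subgroup G) ≤ K) →
      (Subgroup.normalizer (K : Set G)).map (QuotientGroup.mk' A) =
        Subgroup.normalizer ((K.map (QuotientGroup.mk' A) : Subgroup (G ⧸ A)) : Set (G ⧸ A)) := by
  obtain ⟨T₀, rfl⟩ := hT
  set T : Subgroup G := (T₀ : Subgroup A).map A.subtype with hTdef
  set N := Subgroup.normalizer (T : Set G) with hN
  constructor
  · rintro K ⟨Pb, hPb⟩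
    set f := QuotientGroup.mk' (T.subgroupOf N) with hf
    have hTp : IsPGroup p T := T₀.isPGroup'.map _
    obtain ⟨P₁, hP₁⟩ := hTp.exists_le_sylow
    obtain ⟨Q, hQ⟩ := exists_sylow_inf A P₁
    have hTeq : T = (P₁ : Subgroup G) ⊓ A := by
      have h2 : T ≤ (P₁ : Subgroup G) ⊓ A :=
        le_inf hP₁ (by rintro _ ⟨z, -, rfl⟩; exact z.2)
      refine Subgroup.eq_of_le_of_card_ge h2 ?_
      rw [← hQ, hTdef, Subgroup.card_map_of_injective A.subtype_injective,
        Subgroup.card_map_of_injective A.subtype_injective]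
      exact le_of_eq (Nat.card_congr (Q.equiv T₀).toEquiv)
    have hPN : (P₁ : Subgroup G) ≤ N := by
      intro y hy
      rw [hN, ← cj_eq_iff, hTeq]
      ext z
      simp only [mem_cj, Subgroup.mem_inf]
      refine and_congr ⟨fun h => ?_, fun h => ?_⟩ ⟨fun h => ?_, fun h => ?_⟩
      · have := P₁.mul_mem (P₁.mul_mem hy h) (P₁.inv_mem hy)
        simpa [mul_assoc] using this
      · exact P₁.mul_mem (P₁.mul_mem (P₁.inv_mem hy) h) hy
      · have := (inferInstance : A.Normal).conj_mem _ h y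
        simpa [mul_assoc] using this
      · exact (inferInstance : A.Normal).conj_mem' _ h y
    obtain ⟨n, hn⟩ := MulAction.exists_smul_eq (↥N ⧸ T.subgroupOf N)
      ((P₁.subtype hPN).mapSurjective (QuotientGroup.mk'_surjective _)) Pb
    obtain ⟨n, rfl⟩ := QuotientGroup.mk'_surjective (T.subgroupOf N) n
    have hle : ((n • P₁.subtype hPN : Sylow p N) : Subgroup N) ≤ K.comap f := by
      intro z hz
      apply hPb
      rw [← hn]
      show f z ∈ cj (f n) (((P₁.subtype hPN : Sylow p N) : Subgroup N).map f)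
      rw [← map_cj]
      exact Subgroup.mem_map_of_mem f hz
    have hK : Cfsg.IsPronormal ((K.comap f).map N.subtype) := by
      refine h _ ⟨(n : G) • P₁, ?_⟩
      intro z hz
      obtain ⟨w, hw, rfl⟩ := (hz : z ∈ cj (n : G) (P₁ : Subgroup G))
      exact ⟨n * ⟨w, hPN hw⟩ * n⁻¹, hle ⟨⟨w, hPN hw⟩, hw, rfl⟩, rfl⟩
    rw [← Subgroup.map_comap_eq_self_of_surjective (QuotientGroup.mk'_surjective _) K]
    exact isPronormal_map (QuotientGroup.mk'_surjective _) (isPronormal_subgroupOf hK)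
  · intro K hK
    set q := QuotientGroup.mk' A
    refine le_antisymm ?_ ?_
    · rintro _ ⟨g, hg, rfl⟩
      rw [← cj_eq_iff, ← map_cj, cj_eq_iff.2 hg]
    · intro yb hyb
      obtain ⟨g, rfl⟩ := QuotientGroup.mk'_surjective A yb
      have hpro := h K hK
      rw [isPronormal_iff] at hpro
      obtain ⟨x, hx, hgx⟩ := hpro g
      have hle : K ⊔ cj g K ≤ K ⊔ A := by
        refine sup_le le_sup_left ?_
        have h' : (cj g K).map q = K.map q := by rw [map_cj, cj_eq_iff.2 hyb]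
        have : cj g K ≤ (K.map q).comap q := h' ▸ Subgroup.le_comap_map _ _
        rwa [Subgroup.comap_map_eq, QuotientGroup.ker_mk'] at this
      obtain ⟨k, hk, a, ha, rfl⟩ := Subgroup.mem_sup_of_normal_right.1 (hle hx)
      have hn : (k * a)⁻¹ * g ∈ Subgroup.normalizer (K : Set G) := by
        rw [← cj_eq_iff, ← cj_cj, hgx, cj_cj, inv_mul_cancel, cj_one]
      refine ⟨k * ((k * a)⁻¹ * g), Subgroup.mul_mem _ (Subgroup.le_normalizer hk) hn, ?_⟩
      rw [show k * ((k * a)⁻¹ * g) = k * a⁻¹ * k⁻¹ * g by group, map_mul q (k * a⁻¹ * k⁻¹),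
        show q (k * a⁻¹ * k⁻¹) = 1 from (QuotientGroup.eq_one_iff _).2
          ((inferInstance : A.Normal).conj_mem _ (A.inv_mem ha) k), one_mul]

end CfsgLib.PronormalExt
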